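import Groth.Agent.L27.FinBC.GenericTools
import Groth.Agent.L27.FinBC.FibreAcyclicN
import Groth.Agent.L27.FinBC.Generic
import Groth.Agent.L27.StalkBC.ConstReduce
import Groth.Agent.L27.StalkBC.Via
import Groth.Prelude.Def_EtRestW

/-! # Local acyclicity relative to locally constant torsion sheaves -/

universe u

open CategoryTheory CategoryTheory.Limits AlgebraicGeometry Opposite IsLocalRing CategoryTheory.Abelian
open scoped TensorProduct

set_option autoImplicit false
set_option maxHeartbeats 800000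
set_option backward.isDefEq.respectTransparency.types false
set_option linter.style.haveILetI false
set_option linter.unusedSectionVars false

noncomputable section

namespace Groth.L23.LocAcycRel

open Groth.L27

/-- Cohomology of a constant torsion sheaf vanishes when it does for all cyclic coefficient groups. -/
theorem subsingleton_H_K_of_torsion {P : Scheme.{u}} [CompactSpace P] [QuasiSeparatedSpace P]
    (q : ℕ) (good : ℕ → Prop) (h1 : good 1) (hmul : ∀ a b, good a → good b → good (a * b))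
    (hdvd : ∀ d n, d ∣ n → good n → good d) (hgood0 : ¬ good 0)
    (hd : ∀ d : ℕ, good d → Subsingleton (EtCoh.H P (EtCoh.const P (ZMod d)) q))
    (A : AddCommGrpCat.{u + 1}) (hA : ∀ a : A, ∃ m, good m ∧ m • a = 0) :
    Subsingleton (EtCoh.H P (ConstSect.K A P) q) := by
  classical
  let Ψ : AddCommGrpCat.{u + 1} ⥤ EtCoh.Ab P := constantSheaf P.smallEtaleTopology AddCommGrpCat.{u + 1}
  haveI : Ψ.IsLeftAdjoint := (EtCore.constAdj P).isLeftAdjoint
  haveI : Ψ.Additive := Functor.additive_of_preserves_binary_products Ψ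
  haveI : PreservesColimitsOfSize.{u + 1, u + 1} Ψ := (EtCore.constAdj P).leftAdjoint_preservesColimits
  haveI : IsFiltered (Finset A) := inferInstance
  have hc : IsColimit (Ψ.mapCocone (StalkBC.subC A)) := isColimitOfPreserves Ψ (StalkBC.isColimitSubC A)
  refine subsingleton_of_forall_eq 0 fun ξ => ?_
  obtain ⟨s, η, hη⟩ := (L10.BigColim.ExtRep.commutes Colim.good
    (StalkBC.repTop P) (T := EtCoh.top P) ⟨‹_›, ‹_›⟩ q (StalkBC.subD A ⋙ Ψ) _ hc).1 ξ
  choose m hm hm0 using hA
  let n := ∏ a ∈ s, m a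
  have hn : good n := Finset.prod_induction _ good hmul h1 fun a _ => hm a
  have hns : ∀ x : (StalkBC.subD A).obj s, n • x = 0 := fun x => Subtype.ext <| by
    refine AddSubgroup.closure_induction (p := fun y _ => n • y = 0) (fun y hy => ?_) (smul_zero _)
      (fun a b _ _ ha hb => by rw [smul_add, ha, hb, add_zero]) (fun a _ ha => by rw [smul_neg, ha, neg_zero]) x.2
    obtain ⟨c, hc⟩ : m y ∣ n := Finset.dvd_prod_of_mem m hy
    rw [hc, mul_comm, mul_smul, hm0, smul_zero]
  haveI : AddGroup.FG ((StalkBC.subD A).obj s) := (AddGroup.fg_iff_addSubgroup_fg _).2 ⟨s, rfl⟩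
  haveI : Finite ((StalkBC.subD A).obj s) := AddCommGroup.finite_of_fg_isAddTorsion _ fun x =>
    isOfFinAddOrder_iff_nsmul_eq_zero.2 ⟨n, Nat.pos_of_ne_zero fun h => hgood0 (h ▸ hn), hns x⟩
  haveI := StalkBC.subsingleton_H_finite Ψ q (fun d hdn => hd d (hdvd d n hdn hn)) ((StalkBC.subD A).obj s) hns
  rw [← hη, show η = (0 : EtCoh.H P (Ψ.obj ((StalkBC.subD A).obj s)) q) from
    Subsingleton.elim (α := EtCoh.H P (Ψ.obj ((StalkBC.subD A).obj s)) q) η 0]
  exact map_zero _

/-- Elements of the group of a constant sheaf on a strictly local scheme inherit torsion from the stalk of a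
sheaf it is pulled back from. -/
theorem torsion_of_stalk {X : Scheme.{u}} (R : Type u) [CommRing R] [HenselianLocalRing R]
    [IsSepClosed (ResidueField R)] (t : Spec (CommRingCat.of R) ⟶ X) (F : EtCoh.Ab X) (A : AddCommGrpCat.{u + 1})
    (e : (EtCoh.pull t).obj F ≅ ConstSect.K A _) (good : ℕ → Prop)
    (hs : ∀ s : (EtCoh.stalk (EtSite.closedPt R ≫ t)).obj F, ∃ m, good m ∧ m • s = 0) (a : A) :
    ∃ m, good m ∧ m • a = 0 := by
  let T := EtCoh.top (Spec (CommRingCat.of R))
  let P := Scheme.pointSmallEtale (EtSite.closedPt R)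
  haveI : Nonempty (Spec (CommRingCat.of R)) := ⟨closedPoint R⟩
  haveI : Nonempty T.left := ⟨closedPoint R⟩
  let i := ((EtSite.stalkPullIso t (EtSite.closedPt R)).app F).symm ≪≫ (EtCoh.stalk (EtSite.closedPt R)).mapIso e
  have hi := ConcreteCategory.bijective_of_isIso i.hom
  obtain ⟨s, hs'⟩ := hi.2 (P.toPresheafFiber T (EtSite.topPt R) (ConstSect.K A _).obj (ConstSect.cst A T a))
  obtain ⟨m, hm, h0⟩ := hs s
  refine ⟨m, hm, ConstSect.cst_injective A T ((EtSite.bijective_toPresheafFiber R _).1 ?_)⟩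
  rw [map_nsmul, map_nsmul, map_zero, map_zero]
  exact (congrArg (m • ·) hs').symm.trans
    ((map_nsmul i.hom.hom m s).symm.trans ((congrArg i.hom.hom h0).trans (map_zero i.hom.hom)))

theorem natCast_ne_zero_of_residueField {X : Scheme.{u}} (x : X) (R : Type u) [CommRing R] [IsLocalRing R]
    [Algebra (X.presheaf.stalk x) R] [IsLocalHom (algebraMap (X.presheaf.stalk x) R)] (m : ℕ)
    (h : (m : ResidueField R) ≠ 0) : (m : X.residueField x) ≠ 0 := by
  intro h0
  apply h
  have := congrArg (ResidueField.map (algebraMap (X.presheaf.stalk x) R))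
    (show (m : ResidueField (X.presheaf.stalk x)) = 0 from h0)
  rwa [map_natCast, map_zero] at this

theorem exists_prime_ne_zero (K : Type*) [Field K] : ∃ ℓ : ℕ, ℓ.Prime ∧ (ℓ : K) ≠ 0 := by
  by_cases h : ((2 : ℕ) : K) = 0
  · refine ⟨3, Nat.prime_three, fun h3 => one_ne_zero (α := K) ?_⟩
    have : ((3 : ℕ) : K) = ((2 : ℕ) : K) + 1 := by norm_num
    rw [h, h3, zero_add] at this
    exact this.symm
  · exact ⟨2, Nat.prime_two, h⟩

variable {X S : Scheme.{u}} (f : X ⟶ S) (hf : EtRest.IsLocallyAcyclic f) (F : EtCoh.Ab X)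
    (hF : EtRest.IsLocallyConstant F)
    (htor : ∀ (Ω : Type u) [Field Ω] [IsSepClosed Ω] (ξ : Spec (CommRingCat.of Ω) ⟶ X)
      (s : (EtCoh.stalk ξ).obj F), ∃ n : ℕ, 0 < n ∧ (n : Ω) ≠ 0 ∧ n • s = 0)

include hf hF htor in
/-- Locally acyclic morphisms are locally acyclic relative to locally constant sheaves of torsion prime to the
residue characteristics. -/
theorem bijective_Hpull (x : ↥X) (RS RX : Type u) [CommRing RS] [CommRing RX] [IsLocalRing RS] [IsLocalRing RX]
    [Algebra (S.presheaf.stalk (f.base x)) RS] [IsLocalHom (algebraMap (S.presheaf.stalk (f.base x)) RS)]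
    [Hensel.IsStrictHenselization (S.presheaf.stalk (f.base x)) RS]
    [Algebra (X.presheaf.stalk x) RX] [IsLocalHom (algebraMap (X.presheaf.stalk x) RX)]
    [Hensel.IsStrictHenselization (X.presheaf.stalk x) RX]
    [Algebra RS RX] [IsLocalHom (algebraMap RS RX)]
    (hc : (algebraMap RS RX).comp (algebraMap (S.presheaf.stalk (f.base x)) RS) =
      (algebraMap (X.presheaf.stalk x) RX).comp (f.stalkMap x).hom)
    (Ω : Type u) [Field Ω] [IsSepClosed Ω] [Algebra RS Ω]
    [PreservesFiniteLimits (EtCoh.pull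
      (Spec.map (CommRingCat.ofHom (algebraMap RX (EtRest.vcRing RS RX Ω)))))] (q : ℕ) :
    Function.Bijective (EtCore.Hpull (Spec.map (CommRingCat.ofHom (algebraMap RX (EtRest.vcRing RS RX Ω))))
      ((EtCoh.pull (Hens2.specOf X x RX)).obj F) q) := by
  obtain ⟨_, _⟩ := StalkBC.henselian_strict x RX
  let t := Hens2.specOf X x RX
  let φ := Spec.map (CommRingCat.ofHom (algebraMap RX (EtRest.vcRing RS RX Ω)))
  let D := EtRest.vcRing RS RX Ω
  obtain ⟨A, ⟨e⟩⟩ := FinBC.exists_iso_K RX (L28.LocConst.isLocallyConstant_pull t F hF)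
  let good : ℕ → Prop := fun n => (n : X.residueField x) ≠ 0
  have hA : ∀ a : A, ∃ m, good m ∧ m • a = 0 := torsion_of_stalk RX t F A e good fun s => by
    obtain ⟨n, -, hn, h0⟩ := htor _ (EtSite.closedPt RX ≫ t) s
    exact ⟨n, natCast_ne_zero_of_residueField x RX n hn, h0⟩
  refine LimBC.bijective_Hpull_congr φ e.symm q ?_
  rcases Nat.eq_zero_or_pos q with rfl | hq
  · obtain ⟨ℓ, hℓ, hℓx⟩ := exists_prime_ne_zero (X.residueField x)
    haveI : Fact ℓ.Prime := ⟨hℓ⟩
    haveI := (FinBC.connectedSpace_of_H0 (Spec (CommRingCat.of D)) (hf x RS RX hc Ω ℓ hℓx).2).2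
    haveI : ConnectedSpace (Spec (CommRingCat.of RX)) := FinBC.connectedSpace_local RX
    exact FinBC.bijective_Hpull_zero_K φ A
  · haveI := EtSite.subsingleton_H RX (ConstSect.K A (Spec (CommRingCat.of RX))) q hq
    haveI : Subsingleton (EtCoh.H (Spec (CommRingCat.of D))
        ((EtCoh.pull φ).obj (ConstSect.K A (Spec (CommRingCat.of RX)))) q) := by
      have := subsingleton_H_K_of_torsion (P := Spec (CommRingCat.of D)) q good (by simp [good])
        (fun a b ha hb => by simpa [good] using ⟨ha, hb⟩)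
        (fun d n hdn hn h0 => hn (by obtain ⟨c, rfl⟩ := hdn; rw [Nat.cast_mul, h0, zero_mul]))
        (by simp [good]) (fun d hd => (hf x RS RX hc Ω d hd).1 q hq) A hA
      exact @Equiv.subsingleton _ _ ((EtCoh.HF (Spec (CommRingCat.of D)) q).mapIso
        ((EtCore.pullConstIso φ).app A)).addCommGroupIsoToAddEquiv.toEquiv this
    exact ⟨fun _ _ _ => Subsingleton.elim _ _, fun y => ⟨0, Subsingleton.elim (α := EtCoh.H _ _ q) _ y⟩⟩

end Groth.L23.LocAcycRel
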